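import Groth.Agent.FEtLib.EqLocus
import Mathlib.AlgebraicGeometry.Morphisms.Integral
import Mathlib.AlgebraicGeometry.Morphisms.UniversallyOpen

/-!
# Sections of étale morphisms lift along universal homeomorphisms
-/

set_option autoImplicit false
universe u

open CategoryTheory CategoryTheory.Limits AlgebraicGeometry

namespace Groth.Agent.FEtLib

theorem exists_section {P S' T : Scheme.{u}} (π : P ⟶ S') [Etale π] (i : T ⟶ S')
    [IsIntegralHom i] [UniversallyInjective i] [Surjective i]
    (σ : T ⟶ P) (hσ : σ ≫ π = i) :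
    ∃ s : S' ⟶ P, s ≫ π = 𝟙 S' ∧ i ≫ s = σ := by
  let σ' : T ⟶ pullback π i := pullback.lift σ (𝟙 T) (by rw [hσ, Category.id_comp])
  have hσ' : σ' ≫ pullback.snd π i = 𝟙 T := pullback.lift_snd ..
  have : Etale (σ' ≫ pullback.snd π i) := by rw [hσ']; infer_instance
  have : Etale σ' := Etale.of_comp σ' (pullback.snd π i)
  have : IsSplitMono σ' := IsSplitMono.mk' ⟨_, hσ'⟩
  have : UniversallyInjective σ' := inferInstance
  have : IsOpenImmersion σ' := isOpenImmersion_of_etale_universallyInjective σ'
  have : UniversallyInjective (pullback.fst π i) :=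
    MorphismProperty.of_isPullback (P := @UniversallyInjective) (IsPullback.of_hasPullback π i).flip inferInstance
  have : Surjective (pullback.fst π i) :=
    MorphismProperty.of_isPullback (P := @Surjective) (IsPullback.of_hasPullback π i).flip inferInstance
  have : IsIntegralHom (pullback.fst π i) :=
    MorphismProperty.of_isPullback (P := @IsIntegralHom) (IsPullback.of_hasPullback π i).flip inferInstance
  have hhomeo : IsHomeomorph (pullback.fst π i) :=
    isHomeomorph_iff_continuous_isClosedMap_bijective.mpr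
      ⟨(pullback.fst π i).continuous, (pullback.fst π i).isClosedMap,
        (pullback.fst π i).injective, (pullback.fst π i).surjective⟩
  let U : P.Opens := ⟨pullback.fst π i '' (σ'.opensRange : Set ↥(pullback π i)),
    hhomeo.isOpenMap _ σ'.opensRange.isOpen⟩
  have : Etale (U.ι ≫ π) := inferInstance
  have : UniversallyInjective (U.ι ≫ π) := by
    rw [UniversallyInjective.iff_diagonal]
    refine ⟨fun z => ?_⟩
    let p : pullback (U.ι ≫ π) (U.ι ≫ π) ⟶ S' := pullback.fst _ _ ≫ U.ι ≫ π
    obtain ⟨w, rfl⟩ := (pullback.fst p i).surjective z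
    let a := pullback.fst p i ≫ pullback.fst (U.ι ≫ π) (U.ι ≫ π)
    let b := pullback.fst p i ≫ pullback.snd (U.ι ≫ π) (U.ι ≫ π)
    have key : ∀ (c : pullback p i ⟶ U), c ≫ U.ι ≫ π = pullback.snd p i ≫ i →
        c ≫ U.ι = pullback.snd p i ≫ σ := by
      intro c hc
      let c' : pullback p i ⟶ pullback π i :=
        pullback.lift (c ≫ U.ι) (pullback.snd p i) (by rw [Category.assoc, hc])
      have hr : Set.range c' ⊆ Set.range σ' := by
        rintro _ ⟨t, rfl⟩
        obtain ⟨o, ho, hot⟩ := (c t).2
        have hc' : pullback.fst π i (c' t) = U.ι (c t) := by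
          rw [← Scheme.Hom.comp_apply, pullback.lift_fst, Scheme.Hom.comp_apply]
        have : o = c' t := hhomeo.bijective.1 (hot.trans hc'.symm)
        exact this ▸ ho
      have e := IsOpenImmersion.lift_fac σ' c' hr
      have e2 := congrArg (· ≫ pullback.snd π i) e
      simp only [Category.assoc, hσ', Category.comp_id, c', pullback.lift_snd] at e2
      have e1 := congrArg (· ≫ pullback.fst π i) e
      simp only [Category.assoc, σ', c', pullback.lift_fst] at e1
      rw [← e1, e2]
    have ha := key a (by rw [← pullback.condition]; simp [a, p, Category.assoc])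
    have hb := key b (by
      rw [← pullback.condition (f := p)]
      show (pullback.fst p i ≫ _) ≫ _ = pullback.fst p i ≫ _
      rw [Category.assoc]
      exact congrArg (pullback.fst p i ≫ ·) pullback.condition.symm)
    have hab : a = b := (cancel_mono U.ι).mp (ha.trans hb.symm)
    refine ⟨a w, ?_⟩
    have : a ≫ pullback.diagonal (U.ι ≫ π) = pullback.fst p i := by
      apply pullback.hom_ext
      · simp only [Category.assoc, pullback.diagonal_fst, Category.comp_id]; rfl
      · simp only [Category.assoc, pullback.diagonal_snd, Category.comp_id]; exact hab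
    rw [← Scheme.Hom.comp_apply, this]
  have : IsOpenImmersion (U.ι ≫ π) := isOpenImmersion_of_etale_universallyInjective _
  have hr : Set.range σ ⊆ Set.range U.ι := by
    rintro _ ⟨t, rfl⟩
    rw [Scheme.Opens.range_ι]
    exact ⟨σ' t, ⟨t, rfl⟩, by rw [← Scheme.Hom.comp_apply, pullback.lift_fst]⟩
  let σU : T ⟶ U := IsOpenImmersion.lift U.ι σ hr
  have hσU : σU ≫ U.ι = σ := IsOpenImmersion.lift_fac ..
  have hiU : σU ≫ U.ι ≫ π = i := by rw [← Category.assoc, hσU, hσ]
  have : Epi (U.ι ≫ π).base := by
    rw [TopCat.epi_iff_surjective]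
    intro s
    obtain ⟨t, rfl⟩ := i.surjective s
    exact ⟨σU t, by rw [← Scheme.Hom.comp_apply, hiU]⟩
  have : IsIso (U.ι ≫ π) := IsOpenImmersion.isIso _
  refine ⟨inv (U.ι ≫ π) ≫ U.ι, by rw [Category.assoc, IsIso.inv_hom_id], ?_⟩
  conv_lhs => rw [← hiU]
  simp [hσU]

/-- A morphism into an étale scheme extends uniquely along a universal homeomorphism. -/
theorem existsUnique_lift {X S S' T : Scheme.{u}} (p : X ⟶ S) [Etale p] (g : S' ⟶ S) (i : T ⟶ S')
    [IsIntegralHom i] [UniversallyInjective i] [Surjective i] (f₀ : T ⟶ X) (h₀ : f₀ ≫ p = i ≫ g) :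
    ∃! f : S' ⟶ X, f ≫ p = g ∧ i ≫ f = f₀ := by
  obtain ⟨s, hs1, hs2⟩ := exists_section (pullback.snd p g) i (pullback.lift f₀ i h₀) (pullback.lift_snd ..)
  refine ⟨s ≫ pullback.fst p g, ⟨?_, ?_⟩, fun f hf => ?_⟩
  · rw [Category.assoc, pullback.condition, ← Category.assoc, hs1, Category.id_comp]
  · rw [← Category.assoc, hs2, pullback.lift_fst]
  · have hp : (s ≫ pullback.fst p g) ≫ p = g := by
      rw [Category.assoc, pullback.condition, ← Category.assoc, hs1, Category.id_comp]
    refine eq_of_surjective p f (s ≫ pullback.fst p g) i ?_ (hf.1.trans hp.symm)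
    rw [hf.2, ← Category.assoc, hs2, pullback.lift_fst]

end Groth.Agent.FEtLib
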