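import Mathlib.AlgebraicGeometry.Morphisms.FormallyUnramified
import Mathlib.AlgebraicGeometry.Morphisms.UniversallyInjective
import Mathlib.AlgebraicGeometry.Morphisms.Separated
import Mathlib.AlgebraicGeometry.Morphisms.Etale
import Mathlib.AlgebraicGeometry.Morphisms.FlatMono

/-!
# Equality locus of two morphisms into an unramified scheme
-/

set_option autoImplicit false
universe u

open CategoryTheory CategoryTheory.Limits AlgebraicGeometry

namespace Groth.Agent.FEtLib

variable {X Y S : Scheme.{u}} (q : Y ⟶ S) [FormallyUnramified q] [LocallyOfFiniteType q]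
  (u v : X ⟶ Y) (w : u ≫ q = v ≫ q)

/-- The open locus where `u` and `v` agree (as morphisms into `Y` over `S`). -/
noncomputable def eqLocus : X.Opens :=
  (pullback.lift u v w) ⁻¹ᵁ (pullback.diagonal q).opensRange

theorem ι_comp_eq : (eqLocus q u v w).ι ≫ u = (eqLocus q u v w).ι ≫ v := by
  let h := pullback.lift u v w
  have hr : Set.range ((eqLocus q u v w).ι ≫ h) ⊆ Set.range (pullback.diagonal q) := by
    rintro _ ⟨x, rfl⟩
    exact x.2
  have e := IsOpenImmersion.lift_fac (pullback.diagonal q) ((eqLocus q u v w).ι ≫ h) hr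
  have e1 := congrArg (· ≫ pullback.fst q q) e
  have e2 := congrArg (· ≫ pullback.snd q q) e
  simp only [Category.assoc, pullback.diagonal_fst, pullback.diagonal_snd, Category.comp_id, h,
    pullback.lift_fst, pullback.lift_snd] at e1 e2
  rw [← e1, ← e2]

theorem mem_of_comp_eq {T : Scheme.{u}} (g : T ⟶ X) (hg : g ≫ u = g ≫ v) (t : T) :
    g t ∈ eqLocus q u v w := by
  have h : g ≫ pullback.lift u v w = (g ≫ u) ≫ pullback.diagonal q := by
    apply pullback.hom_ext
    · simp only [Category.assoc, pullback.lift_fst, pullback.diagonal_fst, Category.comp_id]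
    · simp only [Category.assoc, pullback.lift_snd, pullback.diagonal_snd, Category.comp_id, hg]
  show (g ≫ pullback.lift u v w) t ∈ (pullback.diagonal q).opensRange
  rw [h]
  exact ⟨(g ≫ u) t, rfl⟩

theorem range_subset {T : Scheme.{u}} (g : T ⟶ X) (hg : g ≫ u = g ≫ v) :
    Set.range g ⊆ (eqLocus q u v w : Set X) := by
  rintro _ ⟨t, rfl⟩
  exact mem_of_comp_eq q u v w g hg t

theorem eq_of_eqLocus_eq_top (h : eqLocus q u v w = ⊤) : u = v := by
  have := ι_comp_eq q u v w
  rw [h] at this
  exact (cancel_epi (Scheme.topIso X).hom).mp this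

theorem eq_of_surjective {T : Scheme.{u}} (g : T ⟶ X) [Surjective g] (hg : g ≫ u = g ≫ v)
    (w : u ≫ q = v ≫ q) : u = v := by
  refine eq_of_eqLocus_eq_top q u v w (top_unique fun x _ => ?_)
  obtain ⟨t, rfl⟩ := g.surjective x
  exact mem_of_comp_eq q u v w g hg t

theorem isClosed_eqLocus [IsSeparated q] : IsClosed (eqLocus q u v w : Set X) :=
  (pullback.diagonal q).isClosedEmbedding.isClosed_range.preimage (pullback.lift u v w).continuous

theorem eq_of_preconnected [IsSeparated q] [PreconnectedSpace X] {T : Scheme.{u}} [Nonempty T]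
    (g : T ⟶ X) (hg : g ≫ u = g ≫ v) (w : u ≫ q = v ≫ q) : u = v := by
  refine eq_of_eqLocus_eq_top q u v w (TopologicalSpace.Opens.ext ?_)
  refine IsClopen.eq_univ ⟨isClosed_eqLocus q u v w, (eqLocus q u v w).isOpen⟩ ?_
  exact (Set.range_nonempty g).mono (range_subset q u v w g hg)

theorem eq_of_denseRange [IsSeparated q] {T : Scheme.{u}} (g : T ⟶ X) (hd : DenseRange g)
    (hg : g ≫ u = g ≫ v) (w : u ≫ q = v ≫ q) : u = v := by
  refine eq_of_eqLocus_eq_top q u v w (TopologicalSpace.Opens.ext ?_)
  exact Set.univ_subset_iff.mp (hd.closure_range ▸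
    closure_minimal (range_subset q u v w g hg) (isClosed_eqLocus q u v w))

end Groth.Agent.FEtLib

namespace Groth.Agent.FEtLib

theorem isOpenImmersion_of_etale_universallyInjective {X Y : Scheme.{u}} (f : X ⟶ Y) [Etale f]
    [UniversallyInjective f] : IsOpenImmersion f := by
  haveI : Surjective (pullback.diagonal f) := (UniversallyInjective.iff_diagonal f).mp inferInstance
  haveI : IsIso (pullback.diagonal f) := by
    haveI : Epi (pullback.diagonal f).base := (TopCat.epi_iff_surjective _).mpr (pullback.diagonal f).surjective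
    exact IsOpenImmersion.isIso _
  haveI : Mono f := (pullback.isIso_diagonal_iff f).mp inferInstance
  exact IsOpenImmersion.of_flat_of_mono f

end Groth.Agent.FEtLib
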